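import Mathlib
import Groth.Agent.RegLocal.Serre

/-!
# Ideals of finite projective dimension with free conormal module
-/

set_option autoImplicit false
universe u

open CategoryTheory IsLocalRing TensorProduct RingTheory.Sequence
open scoped Pointwise

namespace Groth.Agent.FerrVasc

variable {A : Type u} [CommRing A]

/-- The comparison of `B ⊗ I` with `B`. -/
noncomputable def baseMul (B : Type u) [CommRing B] [Algebra A B] (I : Ideal A) : B ⊗[A] I →ₗ[B] B :=
  ((Algebra.linearMap A B).comp (Submodule.subtype I)).liftBaseChange B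

theorem baseMul_tmul {B : Type u} [CommRing B] [Algebra A B] (I : Ideal A) (b : B) (y : I) :
    baseMul B I (b ⊗ₜ y) = b * algebraMap A B y.1 := by
  simp [baseMul]

theorem baseMul_injective (B : Type u) [CommRing B] [Algebra A B] [Module.Flat A B] (I : Ideal A) :
    Function.Injective (baseMul B I) := by
  have h : ⇑(baseMul B I) = (TensorProduct.AlgebraTensorModule.rid A B B).toLinearMap ∘
      (Submodule.subtype I).baseChange B := by
    funext z
    induction z using TensorProduct.induction_on with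
    | zero => simp
    | tmul b y => simp [baseMul_tmul, Algebra.smul_def, mul_comm]
    | add z w hz hw => simp only [Function.comp_apply, map_add] at *; rw [hz, hw]
  rw [h]
  exact (LinearEquiv.injective _).comp
    (Module.Flat.lTensor_preserves_injective_linearMap (M := B) _ Subtype.val_injective)

theorem range_baseMul (B : Type u) [CommRing B] [Algebra A B] (I : Ideal A) :
    LinearMap.range (baseMul B I) = I.map (algebraMap A B) := by
  rw [baseMul, LinearMap.range_liftBaseChange]
  refine congrArg (Submodule.span B) (Set.ext fun b => ?_)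
  simp

/-- The family of lifts of a basis of the conormal module. -/
structure IsConormalBasis {k : ℕ} (I : Ideal A) (x : Fin k → A) : Prop where
  span : Ideal.span (Set.range x) = I
  indep : ∀ a : Fin k → A, ∑ i, a i * x i ∈ I * I → ∀ i, a i ∈ I

theorem IsConormalBasis.mem {k : ℕ} {I : Ideal A} {x : Fin k → A} (h : IsConormalBasis I x) (i : Fin k) :
    x i ∈ I := h.span ▸ Ideal.subset_span (Set.mem_range_self i)

variable [IsLocalRing A] [IsNoetherianRing A]

theorem not_le_associatedPrime {k : ℕ} (hk : 0 < k) {I : Ideal A} {x : Fin k → A}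
    (hx : IsConormalBasis I x) {n : ℕ} (hpd : HasProjectiveDimensionLT (ModuleCat.of A I) (n + 1))
    {P : Ideal A} (hP : P ∈ associatedPrimes A A) : ¬ I ≤ P := by
  intro hIP
  obtain ⟨hPp, w, hw⟩ := (isAssociatedPrime_iff.mp hP)
  let Ap := Localization.AtPrime P
  have hw' : ∀ a, a ∈ P ↔ a * w = 0 := fun a => by
    rw [hw, Submodule.mem_colon_singleton, Submodule.mem_bot, smul_eq_mul]
  have hs : algebraMap A Ap w ≠ 0 := by
    intro h0
    obtain ⟨t, ht⟩ := (IsLocalization.map_eq_zero_iff P.primeCompl Ap w).mp h0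
    exact t.2 ((hw' t).mpr ht)
  have hsm : ∀ a ∈ maximalIdeal Ap, a * algebraMap A Ap w = 0 := by
    intro a ha
    rw [← IsLocalization.AtPrime.map_eq_maximalIdeal P Ap] at ha
    refine Submodule.span_induction (p := fun a _ => a * algebraMap A Ap w = 0) ?_ (zero_mul _)
      (fun a b _ _ ha hb => by rw [add_mul, ha, hb, add_zero]) (fun c a _ ha => by rw [smul_mul_assoc, ha, smul_zero]) ha
    rintro _ ⟨q, hq, rfl⟩
    rw [← map_mul, (hw' q).mp hq, map_zero]
  have hfree := RegLocal.free_of_depth_zero hs hsm (n + 1) _ (RegLocal.flat_baseChange Ap n I hpd)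
  have hkill : ∀ z : Ap ⊗[A] I, algebraMap A Ap w • z = 0 := fun z => by
    refine baseMul_injective Ap I ?_
    rw [map_smul, map_zero, smul_eq_mul, mul_comm]
    refine hsm _ ?_
    rw [← IsLocalization.AtPrime.map_eq_maximalIdeal P Ap]
    exact Ideal.map_mono hIP ((range_baseMul Ap I).le ⟨z, rfl⟩)
  have hsub : Subsingleton (Ap ⊗[A] I) := by
    by_contra hne
    rw [not_subsingleton_iff_nontrivial] at hne
    obtain ⟨j⟩ := (Module.Free.chooseBasis Ap (Ap ⊗[A] I)).index_nonempty
    have := congrArg (fun t => (Module.Free.chooseBasis Ap (Ap ⊗[A] I)).repr t j)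
      (hkill (Module.Free.chooseBasis Ap (Ap ⊗[A] I) j))
    simp only [map_smul, Finsupp.smul_apply, Module.Basis.repr_self, Finsupp.single_eq_same, smul_eq_mul, mul_one,
      map_zero, Finsupp.zero_apply] at this
    exact hs this
  have hx0 : algebraMap A Ap (x ⟨0, hk⟩) = 0 := by
    have := baseMul_tmul (B := Ap) I 1 ⟨_, hx.mem ⟨0, hk⟩⟩
    rw [Subsingleton.elim ((1 : Ap) ⊗ₜ[A] _) 0, map_zero, one_mul] at this
    exact this.symm
  obtain ⟨t, ht⟩ := (IsLocalization.map_eq_zero_iff P.primeCompl Ap _).mp hx0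
  refine t.2 (hIP ?_)
  have := hx.indep (Pi.single ⟨0, hk⟩ (t : A)) ?_ ⟨0, hk⟩
  · simpa using this
  · rw [Finset.sum_eq_single ⟨0, hk⟩ (fun b _ hb => by simp [hb]) (by simp), Pi.single_eq_same, ht]
    exact zero_mem _

/-- The first step: a regular element among the minimal generators. -/
theorem exists_regular_generator {k : ℕ} {I : Ideal A} (hI : I ≠ ⊤) {x : Fin (k + 1) → A}
    (hx : IsConormalBasis I x) {n : ℕ} (hpd : HasProjectiveDimensionLT (ModuleCat.of A I) (n + 1)) :
    ∃ (z : A) (j : Fin (k + 1)) (a : Fin (k + 1) → A),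
      z = ∑ i, a i * x i ∧ IsUnit (a j) ∧ IsSMulRegular A z := by
  classical
  let s := (associatedPrimes.finite A A).toFinset
  have hnot : ¬ ((I : Set A) ⊆ ⋃ i ∈ (↑(insert (maximalIdeal A * I) s) : Set (Ideal A)), ((id i : Ideal A) : Set A)) := by
    rw [Ideal.subset_union_prime (f := id) (maximalIdeal A * I) (maximalIdeal A * I) fun P hP hne _ =>
      ((associatedPrimes.finite A A).mem_toFinset.mp ((Finset.mem_insert.mp hP).resolve_left hne)).1]
    rintro ⟨P, hP, hIP⟩
    rcases Finset.mem_insert.mp hP with rfl | hP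
    · have hbot : I = ⊥ := Submodule.eq_bot_of_le_smul_of_le_jacobson_bot (maximalIdeal A) I I.fg_of_isNoetherianRing
        hIP (maximalIdeal_le_jacobson _)
      have := hx.indep (fun _ => 1) (by
        rw [Finset.sum_eq_zero fun i _ => by rw [show x i = 0 from by simpa [hbot] using hx.mem i, mul_zero]]
        exact zero_mem _) 0
      exact hI (I.eq_top_iff_one.mpr this)
    · exact not_le_associatedPrime (Nat.succ_pos k) hx hpd ((associatedPrimes.finite A A).mem_toFinset.mp hP) hIP
  obtain ⟨z, hz, hzn⟩ := Set.not_subset.mp hnot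
  simp only [Finset.coe_insert, Set.mem_iUnion, Set.mem_insert_iff, id, SetLike.mem_coe, not_exists] at hzn
  obtain ⟨a, ha⟩ := Ideal.mem_span_range_iff_exists_fun.mp (hx.span.symm ▸ hz)
  obtain ⟨j, hj⟩ : ∃ j, IsUnit (a j) := by
    by_contra hn
    simp only [not_exists] at hn
    refine hzn _ (Or.inl rfl) ?_
    rw [← ha]
    exact sum_mem fun i _ => Ideal.mul_mem_mul ((mem_maximalIdeal _).mpr (hn i)) (hx.mem i)
  refine ⟨z, j, a, ha.symm, hj, ?_⟩
  by_contra hreg
  have := (biUnion_associatedPrimes_eq_compl_regular (R := A) (M := A)).ge hreg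
  simp only [Set.mem_iUnion] at this
  obtain ⟨P, hP, hzP⟩ := this
  exact hzn P (Or.inr ((associatedPrimes.finite A A).mem_toFinset.mpr hP)) hzP

omit [IsLocalRing A] [IsNoetherianRing A] in
theorem replace_generator {k : ℕ} {I : Ideal A} {x : Fin k → A} (hx : IsConormalBasis I x)
    {a : Fin k → A} {j : Fin k} (hj : IsUnit (a j)) :
    IsConormalBasis I (Function.update x j (∑ i, a i * x i)) := by
  classical
  constructor
  · refine le_antisymm (Ideal.span_le.mpr ?_) ?_
    · rintro _ ⟨i, rfl⟩
      rw [Function.update_apply]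
      split_ifs
      · exact sum_mem fun i _ => I.mul_mem_left _ (hx.mem i)
      · exact hx.mem i
    · rw [← hx.span, Ideal.span_le]
      rintro _ ⟨i, rfl⟩
      set J := Ideal.span (Set.range (Function.update x j (∑ i, a i * x i)))
      have hmem : ∀ l, l ≠ j → x l ∈ J := fun l hl =>
        Ideal.subset_span ⟨l, Function.update_of_ne hl _ _⟩
      rcases eq_or_ne i j with rfl | h
      · have hs : ∑ l, a l * x l ∈ J := Ideal.subset_span ⟨i, Function.update_self _ _ _⟩
        rw [← Finset.add_sum_erase _ _ (Finset.mem_univ i)] at hs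
        have h2 : a i * x i ∈ J := (Ideal.add_mem_iff_left J
          (sum_mem fun l hl => J.mul_mem_left (a l) (hmem l (Finset.ne_of_mem_erase hl)))).mp hs
        exact (Ideal.unit_mul_mem_iff_mem J hj).mp h2
      · exact hmem i h
  · intro c hc
    have key : ∑ i, c i * Function.update x j (∑ i, a i * x i) i =
        ∑ i, ((if i = j then 0 else c i) + c j * a i) * x i := by
      simp only [add_mul, Finset.sum_add_distrib, mul_assoc, ← Finset.mul_sum]
      rw [← Finset.add_sum_erase _ _ (Finset.mem_univ j),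
        ← Finset.add_sum_erase _ (fun i => (if i = j then 0 else c i) * x i) (Finset.mem_univ j),
        Function.update_self, if_pos rfl, zero_mul, zero_add, add_comm]
      congr 1
      refine Finset.sum_congr rfl fun i hi => ?_
      rw [Function.update_of_ne (Finset.ne_of_mem_erase hi), if_neg (Finset.ne_of_mem_erase hi)]
    rw [key] at hc
    have h := hx.indep _ hc
    have hcj : c j ∈ I := (Ideal.mul_unit_mem_iff_mem I hj).mp (by simpa using h j)
    intro i
    rcases eq_or_ne i j with rfl | hne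
    · exact hcj
    · have := h i
      rw [if_neg hne] at this
      exact (Ideal.add_mem_iff_left I (I.mul_mem_right _ hcj)).mp this

omit [IsLocalRing A] [IsNoetherianRing A] in
/-- A conormal basis descends modulo its distinguished member. -/
theorem quot_basis {k : ℕ} {I : Ideal A} {z : A} {x : Fin (k + 1) → A} {j : Fin (k + 1)}
    (hx : IsConormalBasis I x) (hz : x j = z) :
    IsConormalBasis (I.map (Ideal.Quotient.mk (Ideal.span {z})))
      (fun i => Ideal.Quotient.mk (Ideal.span {z}) (x (j.succAbove i))) := by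
  classical
  set π := Ideal.Quotient.mk (Ideal.span {z})
  constructor
  · rw [← hx.span, Ideal.map_span, ← Set.range_comp]
    refine le_antisymm (Ideal.span_mono ?_) (Ideal.span_le.mpr ?_)
    · rintro _ ⟨i, rfl⟩; exact ⟨_, rfl⟩
    · rintro _ ⟨i, rfl⟩
      rcases Fin.eq_self_or_eq_succAbove j i with rfl | ⟨l, rfl⟩
      · rw [Function.comp_apply, hz, Ideal.Quotient.eq_zero_iff_mem.mpr (Ideal.mem_span_singleton_self z)]
        exact zero_mem _
      · exact Ideal.subset_span ⟨l, rfl⟩
  · intro c hc i
    choose b hb using fun l => Ideal.Quotient.mk_surjective (I := Ideal.span {z}) (c l)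
    have hc' : π (∑ l, b l * x (j.succAbove l)) ∈ (I * I).map π := by
      rw [Ideal.map_mul, map_sum]
      simpa only [map_mul, π, hb] using hc
    obtain ⟨q, hq, hq'⟩ := (Ideal.mem_map_iff_of_surjective π Ideal.Quotient.mk_surjective).mp hc'
    obtain ⟨t, ht⟩ := Ideal.mem_span_singleton'.mp (Ideal.Quotient.eq.mp hq'.symm)
    have hmem := hx.indep (Fin.insertNth j (-t) b) (by
      rw [Fin.sum_univ_succAbove _ j]
      simp only [Fin.insertNth_apply_same, Fin.insertNth_apply_succAbove, hz]
      rwa [show -t * z + ∑ l, b l * x (j.succAbove l) = q by linear_combination (-1 : A) * ht]) (j.succAbove i)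
    rw [Fin.insertNth_apply_succAbove] at hmem
    exact hb i ▸ Ideal.mem_map_of_mem π hmem

/-- The projective dimension descends. -/
theorem quot_pd {k : ℕ} {I : Ideal A} {z : A} {x : Fin (k + 1) → A} {j : Fin (k + 1)}
    (hx : IsConormalBasis I x) (hz : x j = z) (hreg : IsSMulRegular A z) {n : ℕ}
    (hpd : HasProjectiveDimensionLT (ModuleCat.of A I) (n + 1)) :
    HasProjectiveDimensionLT
      (ModuleCat.of (A ⧸ Ideal.span {z}) (I.map (Ideal.Quotient.mk (Ideal.span {z})))) (n + 1) := by
  classical
  let S := A ⧸ Ideal.span {z}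
  set I' := I.map (Ideal.Quotient.mk (Ideal.span {z})) with hI'
  have hregI : IsSMulRegular I z := fun a b h => Subtype.ext (hreg (congrArg Subtype.val h))
  have hdown := RegLocal.hasProjectiveDimensionLT_down hreg n I hregI hpd
  let π : S ⊗[A] I →ₗ[S] I' := (baseMul S I).codRestrict I' fun y => (range_baseMul S I).le ⟨y, rfl⟩
  let φ : (Fin k → S) →ₗ[S] S ⊗[A] I :=
    Fintype.linearCombination S fun l => (1 : S) ⊗ₜ[A] (⟨x (j.succAbove l), hx.mem _⟩ : I)
  let ψ : (Fin k → S) →ₗ[S] I' := π.comp φ
  have hψ : ∀ c, (ψ c : S) = ∑ l, c l * Ideal.Quotient.mk (Ideal.span {z}) (x (j.succAbove l)) := by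
    intro c
    simp [ψ, π, φ, Fintype.linearCombination_apply, baseMul_tmul, S]
  have hψs : Function.Surjective ψ := by
    rintro ⟨y, hy⟩
    have := hy
    rw [hI', ← (quot_basis hx hz).span] at this
    obtain ⟨c, hc⟩ := Ideal.mem_span_range_iff_exists_fun.mp this
    exact ⟨c, Subtype.ext ((hψ c).trans hc)⟩
  have hker : LinearMap.ker ψ ≤ LinearMap.ker φ := by
    intro c hc
    choose b hb using fun l => Ideal.Quotient.mk_surjective (I := Ideal.span {z}) (c l)
    have h0 : Ideal.Quotient.mk (Ideal.span {z}) (∑ l, b l * x (j.succAbove l)) = 0 := by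
      have h := hψ c
      rw [LinearMap.mem_ker.mp hc] at h
      rw [map_sum]
      simpa [hb] using h.symm
    obtain ⟨t, ht⟩ := Ideal.mem_span_singleton'.mp (Ideal.Quotient.eq_zero_iff_mem.mp h0)
    have hmem := hx.indep (Fin.insertNth j (-t) b) (by
      rw [Fin.sum_univ_succAbove _ j]
      simp only [Fin.insertNth_apply_same, Fin.insertNth_apply_succAbove, hz]
      rw [show -t * z + ∑ l, b l * x (j.succAbove l) = 0 by linear_combination (-1 : A) * ht]
      exact zero_mem _) j
    rw [Fin.insertNth_apply_same, neg_mem_iff] at hmem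
    rw [LinearMap.mem_ker]
    have hφc : φ c = (1 : S) ⊗ₜ[A] (∑ l, b l • (⟨x (j.succAbove l), hx.mem _⟩ : I)) := by
      simp only [φ, Fintype.linearCombination_apply, TensorProduct.tmul_sum, TensorProduct.tmul_smul]
      refine Finset.sum_congr rfl fun l _ => ?_
      rw [← algebraMap_smul S (b l), Ideal.Quotient.algebraMap_eq, hb]
    have heq : ∑ l, b l • (⟨x (j.succAbove l), hx.mem _⟩ : I) = z • (⟨t, hmem⟩ : I) := by
      refine Subtype.ext ?_
      simp [← ht, mul_comm]
    rw [hφc, heq, TensorProduct.tmul_smul, ← algebraMap_smul S z,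
      Ideal.Quotient.algebraMap_eq, Ideal.Quotient.eq_zero_iff_mem.mpr (Ideal.mem_span_singleton_self z), zero_smul]
  let σ : I' →ₗ[S] S ⊗[A] I :=
    ((LinearMap.ker ψ).liftQ φ hker).comp (ψ.quotKerEquivOfSurjective hψs).symm.toLinearMap
  have hσ : ∀ y, π (σ y) = y := fun y => by
    obtain ⟨c, rfl⟩ := hψs y
    have hsymm : (ψ.quotKerEquivOfSurjective hψs).symm (ψ c) = Submodule.Quotient.mk c :=
      (LinearEquiv.symm_apply_eq _).mpr (LinearMap.quotKerEquivOfSurjective_apply_mk ψ hψs c).symm
    show π (((LinearMap.ker ψ).liftQ φ hker) _) = _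
    rw [LinearEquiv.coe_coe, hsymm, Submodule.liftQ_apply]
    rfl
  exact (Retract.mk (ModuleCat.ofHom σ) (ModuleCat.ofHom π) (ModuleCat.hom_ext (LinearMap.ext hσ))).hasProjectiveDimensionLT _

theorem exists_regular_list {R : Type u} [CommRing R] : ∀ (k : ℕ) (A : Type u) [CommRing A] [IsLocalRing A]
    [IsNoetherianRing A] (ρ : R →+* A), (∀ a, ∃ r, Associated a (ρ r)) → ∀ (I : Ideal A), I ≠ ⊤ →
    ∀ x : Fin k → A, IsConormalBasis I x → ∀ n : ℕ, HasProjectiveDimensionLT (ModuleCat.of A I) (n + 1) →
    ∃ f : List R, Ideal.ofList (f.map ρ) = I ∧ IsWeaklyRegular A (f.map ρ) := by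
  intro k
  induction k with
  | zero =>
    intro A _ _ _ ρ _ I _ x hx n _
    refine ⟨[], ?_, by simp⟩
    rw [← hx.span, Set.range_eq_empty, Ideal.span_empty]
    simp
  | succ k ih =>
    intro A _ _ _ ρ hρ I hI x hx n hpd
    obtain ⟨z, j, a, hz, hj, hreg⟩ := exists_regular_generator hI hx hpd
    obtain ⟨r, u, hu⟩ := hρ z
    have hz' : ρ r = ∑ i, (u : A) * a i * x i := by
      rw [← hu, hz, Finset.sum_mul]
      exact Finset.sum_congr rfl fun i _ => by ring
    have hx' := replace_generator hx (a := fun i => (u : A) * a i) (j := j) (u.isUnit.mul hj)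
    rw [← hz'] at hx'
    have hreg' : IsSMulRegular A (ρ r) := by
      rw [← hu, mul_comm]; exact (u.isUnit.isSMulRegular A).mul hreg
    set q := Ideal.Quotient.mk (Ideal.span {ρ r}) with hq
    have hmem : ρ r ∈ I := by
      have := hx'.mem j
      rwa [Function.update_self] at this
    have hnt : Nontrivial (A ⧸ Ideal.span {ρ r}) := Ideal.Quotient.nontrivial_iff.mpr
      fun h => hI (top_le_iff.mp (h ▸ Ideal.span_le.mpr (Set.singleton_subset_iff.mpr hmem)))
    haveI : IsLocalRing (A ⧸ Ideal.span {ρ r}) := IsLocalRing.of_surjective' q Ideal.Quotient.mk_surjective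
    have hI' : I.map q ≠ ⊤ := fun h => hI (by
      have := congrArg (Ideal.comap q) h
      rwa [Ideal.comap_map_quotientMk, Ideal.comap_top,
        sup_eq_right.mpr (Ideal.span_le.mpr (Set.singleton_subset_iff.mpr hmem))] at this)
    obtain ⟨f, hf, hfreg⟩ := ih _ (q.comp ρ) (fun b => by
        obtain ⟨a, rfl⟩ := Ideal.Quotient.mk_surjective b
        obtain ⟨r', hr'⟩ := hρ a
        exact ⟨r', hr'.map q⟩) (I.map q) hI' _
      (quot_basis hx' (Function.update_self j _ x)) n (quot_pd hx' (Function.update_self j _ x) hreg' hpd)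
    refine ⟨r :: f, ?_, ?_⟩
    · have h : (Ideal.ofList (f.map ρ)).map q = I.map q := by
        rw [Ideal.map_ofList, List.map_map]; exact hf
      rw [List.map_cons, Ideal.ofList_cons]
      have := congrArg (Ideal.comap q) h
      rw [Ideal.comap_map_quotientMk, Ideal.comap_map_quotientMk,
        sup_eq_right.mpr (Ideal.span_le.mpr (Set.singleton_subset_iff.mpr hmem))] at this
      exact this
    · rw [List.map_cons, isWeaklyRegular_cons_iff]
      refine ⟨hreg', ?_⟩
      let e : QuotSMulTop (ρ r) A ≃ₗ[A] (A ⧸ Ideal.span {ρ r}) := Submodule.quotEquivOfEq _ _ (by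
        rw [← Submodule.ideal_span_singleton_smul, smul_eq_mul, Ideal.mul_top])
      rw [e.isWeaklyRegular_congr, ← isWeaklyRegular_map_algebraMap_iff (A ⧸ Ideal.span {ρ r}), List.map_map,
        Ideal.Quotient.algebraMap_eq]
      exact hfreg

section Spread

variable {R : Type u} [CommRing R] [IsNoetherianRing R] (p : Ideal R) [p.IsPrime]

theorem exists_mul_le {C L : Ideal R}
    (h : C.map (algebraMap R (Localization.AtPrime p)) ≤ L.map (algebraMap R (Localization.AtPrime p))) :
    ∃ t ∉ p, ∀ c ∈ C, t * c ∈ L := by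
  classical
  obtain ⟨s, hs⟩ := C.fg_of_isNoetherianRing
  have hc : ∀ c ∈ s, ∃ t ∉ p, t * c ∈ L := fun c hc => by
    obtain ⟨t, ht, h'⟩ := (IsLocalization.algebraMap_mem_map_algebraMap_iff p.primeCompl
      (Localization.AtPrime p) L c).mp (h (Ideal.mem_map_of_mem _ (hs ▸ Ideal.subset_span hc)))
    exact ⟨t, ht, h'⟩
  choose t ht htc using hc
  refine ⟨∏ c ∈ s.attach, t c.1 c.2,
    fun h => let ⟨c, _, hc⟩ := (Ideal.IsPrime.prod_mem_iff (hp := ‹p.IsPrime›)).mp h; ht c.1 c.2 hc, fun c hcC => ?_⟩
  rw [← hs] at hcC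
  refine Submodule.span_induction (p := fun c _ => _ * c ∈ L) ?_ (by simp)
    (fun a b _ _ ha hb => by rw [mul_add]; exact add_mem ha hb)
    (fun d a _ ha => by rw [smul_eq_mul, mul_left_comm]; exact L.mul_mem_left d ha) hcC
  intro a ha
  rw [← Finset.prod_erase_mul _ _ (Finset.mem_attach s ⟨a, ha⟩), mul_assoc]
  exact L.mul_mem_left _ (htc a ha)

theorem map_le_of_mul {C L : Ideal R} {g t : R} (hg : t ∣ g) (h : ∀ c ∈ C, t * c ∈ L) :
    C.map (algebraMap R (Localization.Away g)) ≤ L.map (algebraMap R (Localization.Away g)) := by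
  refine Ideal.map_le_iff_le_comap.mpr fun c hc => Ideal.mem_comap.mpr ?_
  refine (Ideal.unit_mul_mem_iff_mem _ (?_ : IsUnit (algebraMap R (Localization.Away g) t))).mp ?_
  · exact isUnit_of_dvd_unit (map_dvd _ hg) (IsLocalization.Away.algebraMap_isUnit g)
  · rw [← map_mul]; exact Ideal.mem_map_of_mem _ (h c hc)

/-- Spreading out a regular sequence from a point to a neighbourhood. -/
theorem exists_regular_away (I : Ideal R) (hIp : I ≤ p) (f : List R)
    (hspan : Ideal.ofList (f.map (algebraMap R (Localization.AtPrime p))) =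
      I.map (algebraMap R (Localization.AtPrime p)))
    (hreg : IsWeaklyRegular (Localization.AtPrime p) (f.map (algebraMap R (Localization.AtPrime p)))) :
    ∃ g : R, g ∉ p ∧ IsRegular (Localization.Away g) (f.map (algebraMap R (Localization.Away g))) ∧
      Ideal.ofList (f.map (algebraMap R (Localization.Away g))) = I.map (algebraMap R (Localization.Away g)) := by
  classical
  rw [← Ideal.map_ofList] at hspan
  obtain ⟨t1, ht1, h1⟩ := exists_mul_le p hspan.le
  obtain ⟨t2, ht2, h2⟩ := exists_mul_le p hspan.ge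
  let C : Fin f.length → Ideal R := fun i =>
    Submodule.comap (LinearMap.mulLeft R f[i]) (Ideal.ofList (f.take i))
  have hC : ∀ i, ∃ t ∉ p, ∀ c ∈ C i, t * c ∈ Ideal.ofList (f.take i) := fun i => by
    refine exists_mul_le p (Ideal.map_le_iff_le_comap.mpr fun c hc => Ideal.mem_comap.mpr ?_)
    have h := (isWeaklyRegular_iff _ _).mp hreg i (by rw [List.length_map]; exact i.2)
    rw [List.getElem_map, ← List.map_take, ← Ideal.map_ofList, smul_eq_mul, Ideal.mul_top] at h
    refine (isSMulRegular_quotient_iff_mem_of_smul_mem _ _).mp h _ ?_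
    rw [smul_eq_mul, ← map_mul]
    exact Ideal.mem_map_of_mem _ (show f[i] * c ∈ _ from hc)
  choose t ht hCt using hC
  refine ⟨t1 * t2 * ∏ i, t i, fun h => ?_, ?_⟩
  · rcases Ideal.IsPrime.mem_or_mem inferInstance h with h | h
    · exact (Ideal.IsPrime.mem_or_mem inferInstance h).elim ht1 ht2
    · obtain ⟨i, -, hi⟩ := (Ideal.IsPrime.prod_mem_iff (hp := ‹p.IsPrime›)).mp h
      exact ht i hi
  set g := t1 * t2 * ∏ i, t i with hgdef
  have heq : Ideal.ofList (f.map (algebraMap R (Localization.Away g))) = I.map (algebraMap R (Localization.Away g)) := by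
    rw [← Ideal.map_ofList]
    exact le_antisymm (map_le_of_mul ((dvd_mul_right t1 t2).trans (dvd_mul_right _ _)) h1)
      (map_le_of_mul ((dvd_mul_left t2 t1).trans (dvd_mul_right _ _)) h2)
  refine ⟨⟨?_, ?_⟩, heq⟩
  · refine (isWeaklyRegular_iff _ _).mpr fun i hi => ?_
    rw [List.length_map] at hi
    rw [List.getElem_map, ← List.map_take, ← Ideal.map_ofList, smul_eq_mul, Ideal.mul_top]
    refine (isSMulRegular_quotient_iff_mem_of_smul_mem _ _).mpr fun a ha => ?_
    obtain ⟨⟨b, d⟩, hbd⟩ := IsLocalization.surj (Submonoid.powers g) a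
    have hd := IsLocalization.map_units (Localization.Away g) d
    rw [← Ideal.mul_unit_mem_iff_mem _ hd, hbd]
    have hfb : algebraMap R (Localization.Away g) (f[i] * b) ∈
        (Ideal.ofList (f.take i)).map (algebraMap R (Localization.Away g)) := by
      rw [map_mul, ← hbd, ← mul_assoc]
      exact Ideal.mul_mem_right _ _ ha
    obtain ⟨e, he, he'⟩ := (IsLocalization.algebraMap_mem_map_algebraMap_iff (Submonoid.powers g)
      (Localization.Away g) _ _).mp hfb
    have hmem : e * b ∈ C ⟨i, hi⟩ := by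
      show f[i] * (e * b) ∈ Ideal.ofList (f.take i)
      rwa [mul_left_comm]
    have := map_le_of_mul ((Finset.dvd_prod_of_mem t (Finset.mem_univ ⟨i, hi⟩)).trans (dvd_mul_left _ _))
      (hCt ⟨i, hi⟩) (Ideal.mem_map_of_mem (algebraMap R (Localization.Away g)) hmem)
    rw [map_mul] at this
    exact (Ideal.unit_mul_mem_iff_mem _ (IsLocalization.map_units (Localization.Away g) ⟨e, he⟩)).mp this
  · rw [smul_eq_mul, Ideal.mul_top, heq, ne_comm, ne_eq, Ideal.eq_top_iff_one,
      ← (algebraMap R (Localization.Away g)).map_one,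
      IsLocalization.algebraMap_mem_map_algebraMap_iff (Submonoid.powers g)]
    rintro ⟨e, ⟨m, rfl⟩, he⟩
    have hgp : g ∉ p := fun h => by
      rcases Ideal.IsPrime.mem_or_mem inferInstance h with h | h
      · exact (Ideal.IsPrime.mem_or_mem inferInstance h).elim ht1 ht2
      · obtain ⟨i, -, hi⟩ := (Ideal.IsPrime.prod_mem_iff (hp := ‹p.IsPrime›)).mp h
        exact ht i hi
    exact hgp (Ideal.IsPrime.mem_of_pow_mem inferInstance m (hIp (by simpa using he)))

end Spread

section LocalBasis

theorem exists_conormalBasis {R : Type u} [CommRing R] [IsNoetherianRing R] (I : Ideal R)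
    [Module.Projective (R ⧸ I) I.Cotangent] (p : Ideal R) [p.IsPrime] (hIp : I ≤ p) :
    ∃ (k : ℕ) (x : Fin k → Localization.AtPrime p),
      IsConormalBasis (I.map (algebraMap R (Localization.AtPrime p))) x := by
  classical
  let A := Localization.AtPrime p
  set J := I.map (algebraMap R A) with hJ
  obtain ⟨m, y, hy⟩ := Submodule.fg_iff_exists_fin_generating_family.mp I.fg_of_isNoetherianRing
  have hymem : ∀ i, y i ∈ I := fun i => hy.le (Submodule.subset_span ⟨i, rfl⟩)
  let π : (Fin m → R ⧸ I) →ₗ[R ⧸ I] I.Cotangent :=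
    Fintype.linearCombination (R ⧸ I) fun i => I.toCotangent ⟨y i, hymem i⟩
  have hπ : ∀ a : Fin m → R,
      π (fun i => Ideal.Quotient.mk I (a i)) = I.toCotangent ⟨∑ i, a i * y i,
        sum_mem fun i _ => I.mul_mem_left _ (hymem i)⟩ := fun a => by
    simp only [π, Fintype.linearCombination_apply, ← Ideal.Quotient.algebraMap_eq, algebraMap_smul]
    simp only [← map_smul]
    rw [← map_sum]
    exact congrArg _ (Subtype.ext (by simp))
  have hπs : Function.Surjective π := by
    intro w
    obtain ⟨⟨v, hv⟩, rfl⟩ := I.toCotangent_surjective w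
    obtain ⟨a, ha⟩ := (Submodule.mem_span_range_iff_exists_fun R).mp (hy.symm.le hv)
    exact ⟨_, (hπ a).trans (congrArg _ (Subtype.ext (by simpa using ha)))⟩
  obtain ⟨s, hs⟩ := Module.projective_lifting_property π LinearMap.id hπs
  choose Em hE using fun i l => Ideal.Quotient.mk_surjective (s (I.toCotangent ⟨y i, hymem i⟩) l)
  have h1 : ∀ i, ∑ l, Em i l * y l - y i ∈ I * I := fun i => by
    have h := LinearMap.congr_fun hs (I.toCotangent ⟨y i, hymem i⟩)
    rw [LinearMap.comp_apply, ← funext (hE i), hπ, LinearMap.id_apply, Ideal.toCotangent_eq, pow_two] at h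
    exact h
  have h2 : ∀ a : Fin m → R, ∑ i, a i * y i ∈ I * I → ∀ l, ∑ i, a i * Em i l ∈ I := fun a ha l => by
    have h0 : π (fun i => Ideal.Quotient.mk I (a i)) = 0 := by
      rw [hπ, Ideal.toCotangent_eq_zero, pow_two]; exact ha
    have h := congrArg (fun w => s w l) h0
    simp only [π, Fintype.linearCombination_apply, map_sum, map_smul, Finset.sum_apply, Pi.smul_apply,
      map_zero, Pi.zero_apply, ← hE, smul_eq_mul] at h
    rw [← Ideal.Quotient.eq_zero_iff_mem, map_sum]
    simpa using h
  have hJne : J ≠ ⊤ := fun h => (maximalIdeal.isMaximal A).ne_top (top_le_iff.mp (h ▸ by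
    rw [hJ, ← IsLocalization.AtPrime.map_eq_maximalIdeal p A]; exact Ideal.map_mono hIp))
  haveI : Nontrivial (A ⧸ J) := Ideal.Quotient.nontrivial_iff.mpr hJne
  haveI : IsLocalRing (A ⧸ J) := IsLocalRing.of_surjective' (Ideal.Quotient.mk J) Ideal.Quotient.mk_surjective
  let f := algebraMap R A
  have hfy : ∀ i, f (y i) ∈ J := fun i => Ideal.mem_map_of_mem f (hymem i)
  let πA : (Fin m → A ⧸ J) →ₗ[A ⧸ J] J.Cotangent :=
    Fintype.linearCombination (A ⧸ J) fun i => J.toCotangent ⟨f (y i), hfy i⟩
  have hπA : ∀ a : Fin m → A,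
      πA (fun i => Ideal.Quotient.mk J (a i)) = J.toCotangent ⟨∑ i, a i * f (y i),
        sum_mem fun i _ => J.mul_mem_left _ (hfy i)⟩ := fun a => by
    simp only [πA, Fintype.linearCombination_apply, ← Ideal.Quotient.algebraMap_eq, algebraMap_smul]
    simp only [← map_smul]
    rw [← map_sum]
    exact congrArg _ (Subtype.ext (by simp))
  have hJy : J = Ideal.span (Set.range fun i => f (y i)) := by
    rw [hJ, show I = Ideal.span (Set.range y) from hy.symm, Ideal.map_span, ← Set.range_comp]
    rfl
  have hπAs : Function.Surjective πA := by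
    intro w
    obtain ⟨⟨v, hv⟩, rfl⟩ := J.toCotangent_surjective w
    obtain ⟨a, ha⟩ := Ideal.mem_span_range_iff_exists_fun.mp (hJy.le hv)
    exact ⟨_, (hπA a).trans (congrArg _ (Subtype.ext ha))⟩
  let φ : (Fin m → A ⧸ J) →ₗ[A ⧸ J] (Fin m → A ⧸ J) :=
    Fintype.linearCombination (A ⧸ J) fun i l => Ideal.Quotient.mk J (f (Em i l))
  have hker : LinearMap.ker πA ≤ LinearMap.ker φ := by
    intro c hc
    choose a ha using fun i => Ideal.Quotient.mk_surjective (c i)
    obtain ⟨d, hd⟩ := IsLocalization.exist_integer_multiples p.primeCompl Finset.univ a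
    choose a' ha' using fun i => hd i (Finset.mem_univ i)
    have hdu : IsUnit (f d) := IsLocalization.map_units A d
    have ha'' : ∀ i, f (a' i) = f d * a i := fun i => (ha' i).trans (Algebra.smul_def _ _)
    have h0 : f (∑ i, a' i * y i) ∈ (I * I).map f := by
      have h : ∑ i, a i * f (y i) ∈ J * J := by
        rw [LinearMap.mem_ker, ← funext ha, hπA, Ideal.toCotangent_eq_zero, pow_two] at hc
        exact hc
      rw [Ideal.map_mul, map_sum, Finset.sum_congr rfl fun i _ => by rw [map_mul, ha'', mul_assoc],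
        ← Finset.mul_sum]
      exact Ideal.mul_mem_left _ _ h
    obtain ⟨e, he, he'⟩ := (IsLocalization.algebraMap_mem_map_algebraMap_iff p.primeCompl A _ _).mp h0
    rw [Finset.mul_sum] at he'
    have h3 := h2 (fun i => e * a' i) (by simpa [mul_assoc] using he')
    rw [LinearMap.mem_ker]
    funext l
    have h4 : f (∑ i, e * a' i * Em i l) ∈ J := Ideal.mem_map_of_mem f (h3 l)
    rw [map_sum, Finset.sum_congr rfl fun i _ => by
      rw [map_mul, map_mul, ha'', show f e * (f d * a i) * f (Em i l) = (f e * f d) * (a i * f (Em i l)) by ring],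
      ← Finset.mul_sum,
      Ideal.unit_mul_mem_iff_mem _ ((IsLocalization.map_units A ⟨e, he⟩).mul hdu)] at h4
    simp only [φ, Fintype.linearCombination_apply, Finset.sum_apply, Pi.smul_apply, smul_eq_mul, Pi.zero_apply,
      ← ha, ← map_mul, ← map_sum]
    exact Ideal.Quotient.eq_zero_iff_mem.mpr h4
  let sA : J.Cotangent →ₗ[A ⧸ J] (Fin m → A ⧸ J) :=
    ((LinearMap.ker πA).liftQ φ hker).comp (πA.quotKerEquivOfSurjective hπAs).symm.toLinearMap
  have hsA : πA.comp sA = LinearMap.id := by
    refine LinearMap.ext fun w => ?_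
    obtain ⟨c, rfl⟩ := hπAs w
    have hsymm : (πA.quotKerEquivOfSurjective hπAs).symm (πA c) = Submodule.Quotient.mk c :=
      (LinearEquiv.symm_apply_eq _).mpr (LinearMap.quotKerEquivOfSurjective_apply_mk πA hπAs c).symm
    show πA (((LinearMap.ker πA).liftQ φ hker) _) = _
    rw [LinearEquiv.coe_coe, hsymm, Submodule.liftQ_apply]
    show (πA.comp φ) c = πA c
    congr 1
    refine LinearMap.pi_ext' fun i => LinearMap.ext_ring ?_
    simp only [LinearMap.comp_apply, LinearMap.coe_single, φ, Fintype.linearCombination_apply_single, one_smul]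
    rw [hπA, show πA (Pi.single i 1) = J.toCotangent ⟨f (y i), hfy i⟩ by
      simp [πA, Fintype.linearCombination_apply_single], Ideal.toCotangent_eq, pow_two, ← Ideal.map_mul]
    have h := Ideal.mem_map_of_mem f (h1 i)
    simpa [map_sum, map_sub] using h
  haveI : Module.Projective (A ⧸ J) J.Cotangent := Module.Projective.of_split sA πA hsA
  haveI : Module.Finite (A ⧸ J) J.Cotangent := Module.Finite.of_surjective πA hπAs
  haveI : Module.Free (A ⧸ J) J.Cotangent := Module.free_of_flat_of_isLocalRing
  let b := Module.finBasis (A ⧸ J) J.Cotangent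
  choose x hx using fun i => J.toCotangent_surjective (b i)
  refine ⟨_, fun i => (x i : A), ⟨?_, ?_⟩⟩
  · refine le_antisymm (Ideal.span_le.mpr (by rintro _ ⟨i, rfl⟩; exact (x i).2)) ?_
    refine Submodule.le_of_le_smul_of_le_jacobson_bot (I := maximalIdeal A) (N := Ideal.span _)
      J.fg_of_isNoetherianRing (maximalIdeal_le_jacobson _) ?_
    intro v hv
    obtain ⟨c, hc⟩ := (Submodule.mem_span_range_iff_exists_fun (A ⧸ J)).mp (b.mem_span (J.toCotangent ⟨v, hv⟩))
    choose c' hc' using fun i => Ideal.Quotient.mk_surjective (c i)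
    have hdiff : v - ∑ i, c' i * (x i : A) ∈ J * J := by
      have : J.toCotangent ⟨v, hv⟩ = J.toCotangent (∑ i, c' i • x i) := by
        rw [← hc, map_sum]
        refine Finset.sum_congr rfl fun i _ => ?_
        rw [map_smul, hx, ← algebraMap_smul (A := A ⧸ J) (c' i), Ideal.Quotient.algebraMap_eq, hc']
      rw [Ideal.toCotangent_eq, pow_two] at this
      simpa using this
    rw [show v = ∑ i, c' i * (x i : A) + (v - ∑ i, c' i * (x i : A)) by ring]
    refine Submodule.add_mem_sup (sum_mem fun i _ => Ideal.mul_mem_left _ _ (Ideal.subset_span ⟨i, rfl⟩)) ?_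
    exact Ideal.mul_mono (le_maximalIdeal hJne) le_rfl hdiff
  · intro a ha i
    have h0 : ∑ l, (Ideal.Quotient.mk J (a l)) • b l = 0 := by
      rw [show (0 : J.Cotangent) = J.toCotangent (∑ l, a l • x l) from
        ((J.toCotangent_eq_zero _).mpr (by simpa [pow_two] using ha)).symm, map_sum]
      refine Finset.sum_congr rfl fun l _ => ?_
      rw [map_smul, hx, ← algebraMap_smul (A := A ⧸ J) (a l), Ideal.Quotient.algebraMap_eq]
    exact Ideal.Quotient.eq_zero_iff_mem.mp (Fintype.linearIndependent_iff.mp b.linearIndependent _ h0 i)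

end LocalBasis

end Groth.Agent.FerrVasc
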