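import Groth.Agent.FerrVasc.Basic
import Groth.Agent.DSeqLib.Main

/-!
# Ideals of finite projective dimension whose conormal module has a free summand
-/

set_option autoImplicit false
universe u

open CategoryTheory IsLocalRing TensorProduct RingTheory.Sequence
open scoped Pointwise

namespace Groth.Agent.FerrVasc

variable {A : Type u} [CommRing A]

/-- Generators of `I` of which those indexed by `J` give a free direct summand of the conormal module. -/
structure IsPart {k : ℕ} (I : Ideal A) (x : Fin k → A) (J : Set (Fin k)) : Prop where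
  span : Ideal.span (Set.range x) = I
  indep : ∀ a : Fin k → A, ∑ i, a i * x i ∈ I * I → ∀ i ∈ J, a i ∈ I

theorem IsPart.mem {k : ℕ} {I : Ideal A} {x : Fin k → A} {J : Set (Fin k)} (h : IsPart I x J) (i : Fin k) :
    x i ∈ I := h.span ▸ Ideal.subset_span (Set.mem_range_self i)

/-- Generators adapted to a free direct summand of the conormal module. -/
theorem exists_part [IsNoetherianRing A] (I : Ideal A) (F G : Submodule (A ⧸ I) I.Cotangent) (hFG : IsCompl F G) (r : ℕ)
    (e : F ≃ₗ[A ⧸ I] (Fin r → A ⧸ I)) :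
    ∃ (m : ℕ) (x : Fin (r + m) → A) (hx : IsPart I x (Set.range (Fin.castAdd m))), ∀ i,
      I.toCotangent ⟨x (Fin.castAdd m i), hx.mem _⟩ = (e.symm (Pi.single i 1) : I.Cotangent) := by
  classical
  choose u hu using fun i : Fin r => I.toCotangent_surjective (e.symm (Pi.single i 1) : I.Cotangent)
  obtain ⟨m, g, hg⟩ := Submodule.fg_iff_exists_fin_generating_family.mp I.fg_of_isNoetherianRing
  have hgm : ∀ l, g l ∈ I := fun l => hg.le (Submodule.subset_span ⟨l, rfl⟩)
  let coef : I.Cotangent →ₗ[A ⧸ I] (Fin r → A ⧸ I) := e.toLinearMap ∘ₗ Submodule.linearProjOfIsCompl F G hFG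
  choose c hc using fun l i => Ideal.Quotient.mk_surjective (coef (I.toCotangent ⟨g l, hgm l⟩) i)
  let y : Fin m → A := fun l => g l - ∑ i, c l i * (u i : A)
  let x : Fin (r + m) → A := Fin.append (fun i => (u i : A)) y
  have hmem : ∀ i, x i ∈ I := Fin.addCases (fun i => by simp [x]) (fun l => by
    simp only [x, Fin.append_right, y]
    exact sub_mem (hgm l) (sum_mem fun i _ => Ideal.mul_mem_left _ _ (u i).2))
  have hspan : Ideal.span (Set.range x) = I := by
    refine le_antisymm (Ideal.span_le.2 (by rintro _ ⟨i, rfl⟩; exact hmem i)) ?_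
    rw [← hg, Submodule.span_le]
    rintro _ ⟨l, rfl⟩
    rw [show g l = x (Fin.natAdd r l) + ∑ i, c l i * x (Fin.castAdd m i) by simp [x, y]]
    exact add_mem (Ideal.subset_span ⟨_, rfl⟩) (sum_mem fun i _ => Ideal.mul_mem_left _ _ (Ideal.subset_span ⟨_, rfl⟩))
  have hcu : ∀ i, coef (I.toCotangent (u i)) = Pi.single i 1 := fun i => by
    show e (Submodule.linearProjOfIsCompl F G hFG (I.toCotangent (u i))) = _
    rw [hu]
    exact (congrArg e (Submodule.linearProjOfIsCompl_apply_left hFG (e.symm (Pi.single i 1)))).trans (e.apply_symm_apply _)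
  have hcx : ∀ (l : Fin m), coef (I.toCotangent ⟨x (Fin.natAdd r l), hmem _⟩) = 0 := fun l => by
    have h : (⟨x (Fin.natAdd r l), hmem _⟩ : I) = ⟨g l, hgm l⟩ - ∑ i, c l i • u i := Subtype.ext (by simp [x, y])
    rw [h, map_sub, map_sum, map_sub, map_sum, sub_eq_zero]
    simp only [map_smul]
    funext j
    rw [Finset.sum_apply, ← hc l j, Finset.sum_eq_single j]
    · rw [← algebraMap_smul (A ⧸ I) (c l j) (I.toCotangent (u j)), map_smul, Pi.smul_apply, hcu, Pi.single_eq_same,
        Ideal.Quotient.algebraMap_eq, smul_eq_mul, mul_one]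
    · intro b _ hb
      rw [← algebraMap_smul (A ⧸ I) (c l b) (I.toCotangent (u b)), map_smul, Pi.smul_apply, hcu,
        Pi.single_eq_of_ne (Ne.symm hb), smul_zero]
    · simp
  refine ⟨m, x, ⟨hspan, fun a ha i hi => ?_⟩, fun i => ?_⟩
  · obtain ⟨i, rfl⟩ := hi
    have h0 : coef (I.toCotangent ⟨∑ l, a l * x l, sum_mem fun l _ => I.mul_mem_left _ (hmem l)⟩) = 0 := by
      rw [(I.toCotangent_eq_zero _).2 (by rw [pow_two]; exact ha), map_zero]
    rw [show (⟨∑ l, a l * x l, sum_mem fun l _ => I.mul_mem_left _ (hmem l)⟩ : I) = ∑ l, a l • ⟨x l, hmem l⟩ from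
      Subtype.ext (by simp), map_sum, map_sum, Fin.sum_univ_add] at h0
    have h1 := congrFun h0 i
    simp only [map_smul, Pi.add_apply, Finset.sum_apply, Pi.zero_apply] at h1
    rw [Finset.sum_eq_zero (s := (Finset.univ : Finset (Fin m))) (fun l _ => by
      rw [← algebraMap_smul (A ⧸ I) (a (Fin.natAdd r l)), map_smul, Pi.smul_apply, hcx, Pi.zero_apply, smul_zero]),
      add_zero, Finset.sum_eq_single i] at h1
    · rw [show (⟨x (Fin.castAdd m i), hmem _⟩ : I) = u i from Subtype.ext (by simp [x]),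
        ← algebraMap_smul (A ⧸ I) (a (Fin.castAdd m i)), map_smul, Pi.smul_apply, hcu, Pi.single_eq_same,
        smul_eq_mul, mul_one, Ideal.Quotient.algebraMap_eq] at h1
      exact Ideal.Quotient.eq_zero_iff_mem.1 h1
    · intro b _ hb
      rw [show (⟨x (Fin.castAdd m b), hmem _⟩ : I) = u b from Subtype.ext (by simp [x]),
        ← algebraMap_smul (A ⧸ I) (a (Fin.castAdd m b)), map_smul, Pi.smul_apply, hcu,
        Pi.single_eq_of_ne (Ne.symm hb), smul_zero]
    · simp
  · rw [← hu]
    exact congrArg _ (Subtype.ext (by simp [x]))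

variable [IsLocalRing A] [IsNoetherianRing A]

theorem not_le_associatedPrime' {k : ℕ} {I : Ideal A} {x : Fin k → A} {J : Set (Fin k)}
    (hx : IsPart I x J) {j : Fin k} (hj : j ∈ J) {n : ℕ} (hpd : HasProjectiveDimensionLT (ModuleCat.of A I) (n + 1))
    {P : Ideal A} (hP : P ∈ associatedPrimes A A) : ¬ I ≤ P := by
  intro hIP
  obtain ⟨hPp, w, hw⟩ := (isAssociatedPrime_iff.mp hP)
  let Ap := Localization.AtPrime P
  have hw' : ∀ a, a ∈ P ↔ a * w = 0 := fun a => by
    rw [hw, Submodule.mem_colon_singleton, Submodule.mem_bot, smul_eq_mul]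
  have hs : algebraMap A Ap w ≠ 0 := by
    intro h0
    obtain ⟨t, ht⟩ := (IsLocalization.map_eq_zero_iff P.primeCompl Ap w).mp h0
    exact t.2 ((hw' t).mpr ht)
  have hsm : ∀ a ∈ maximalIdeal Ap, a * algebraMap A Ap w = 0 := by
    intro a ha
    rw [← IsLocalization.AtPrime.map_eq_maximalIdeal P Ap] at ha
    refine Submodule.span_induction (p := fun a _ => a * algebraMap A Ap w = 0) ?_ (zero_mul _)
      (fun a b _ _ ha hb => by rw [add_mul, ha, hb, add_zero]) (fun c a _ ha => by rw [smul_mul_assoc, ha, smul_zero]) ha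
    rintro _ ⟨q, hq, rfl⟩
    rw [← map_mul, (hw' q).mp hq, map_zero]
  have hfree := RegLocal.free_of_depth_zero hs hsm (n + 1) _ (RegLocal.flat_baseChange Ap n I hpd)
  have hkill : ∀ z : Ap ⊗[A] I, algebraMap A Ap w • z = 0 := fun z => by
    refine baseMul_injective Ap I ?_
    rw [map_smul, map_zero, smul_eq_mul, mul_comm]
    refine hsm _ ?_
    rw [← IsLocalization.AtPrime.map_eq_maximalIdeal P Ap]
    exact Ideal.map_mono hIP ((range_baseMul Ap I).le ⟨z, rfl⟩)
  have hsub : Subsingleton (Ap ⊗[A] I) := by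
    by_contra hne
    rw [not_subsingleton_iff_nontrivial] at hne
    obtain ⟨i₀⟩ := (Module.Free.chooseBasis Ap (Ap ⊗[A] I)).index_nonempty
    have := congrArg (fun t => (Module.Free.chooseBasis Ap (Ap ⊗[A] I)).repr t i₀)
      (hkill (Module.Free.chooseBasis Ap (Ap ⊗[A] I) i₀))
    simp only [map_smul, Finsupp.smul_apply, Module.Basis.repr_self, Finsupp.single_eq_same, smul_eq_mul, mul_one,
      map_zero, Finsupp.zero_apply] at this
    exact hs this
  have hx0 : algebraMap A Ap (x j) = 0 := by
    have := baseMul_tmul (B := Ap) I 1 ⟨_, hx.mem j⟩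
    rw [Subsingleton.elim ((1 : Ap) ⊗ₜ[A] _) 0, map_zero, one_mul] at this
    exact this.symm
  obtain ⟨t, ht⟩ := (IsLocalization.map_eq_zero_iff P.primeCompl Ap _).mp hx0
  refine t.2 (hIP ?_)
  have := hx.indep (Pi.single j (t : A)) ?_ j hj
  · simpa using this
  · rw [Finset.sum_eq_single j (fun b _ hb => by simp [hb]) (by simp), Pi.single_eq_same, ht]
    exact zero_mem _

omit [IsLocalRing A] [IsNoetherianRing A] in
theorem replace_part {k : ℕ} {I : Ideal A} {x : Fin k → A} {J : Set (Fin k)} (hx : IsPart I x J) (j : Fin k)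
    {d : A} (hd : d ∈ I * I) (hI : I ≤ Ring.jacobson A) (hfg : I.FG) : IsPart I (Function.update x j (x j + d)) J := by
  classical
  have hII : I * I ≤ I := Ideal.mul_le_left
  refine ⟨le_antisymm (Ideal.span_le.2 ?_) ?_, fun a ha i hi => hx.indep a ?_ i hi⟩
  · rintro _ ⟨i, rfl⟩
    rw [Function.update_apply]
    split_ifs with h
    · exact add_mem (hx.mem j) (hII hd)
    · exact hx.mem i
  · refine Submodule.le_of_le_smul_of_le_jacobson_bot (I := I) (N := Ideal.span _) hfg (hI.trans (le_of_eq ?_)) ?_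
    · rw [Ideal.jacobson_bot]
    · conv_lhs => rw [← hx.span]
      rw [Ideal.span_le]
      rintro _ ⟨i, rfl⟩
      have h2 : Function.update x j (x j + d) i ∈ Ideal.span (Set.range (Function.update x j (x j + d))) :=
        Ideal.subset_span ⟨i, rfl⟩
      rcases eq_or_ne i j with rfl | h
      · rw [Function.update_self] at h2
        have h3 := Submodule.add_mem_sup h2 (neg_mem (show d ∈ I • I by rwa [smul_eq_mul]))
        rwa [add_neg_cancel_right] at h3
      · rw [Function.update_of_ne h] at h2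
        exact Submodule.mem_sup_left h2
  · have key : ∑ i, a i * Function.update x j (x j + d) i = ∑ i, a i * x i + a j * d := by
      rw [← Finset.add_sum_erase _ _ (Finset.mem_univ j), ← Finset.add_sum_erase _ (fun i => a i * x i) (Finset.mem_univ j),
        Function.update_self, Finset.sum_congr rfl fun i hi => by rw [Function.update_of_ne (Finset.ne_of_mem_erase hi)]]
      ring
    rw [key] at ha
    exact (Submodule.add_mem_iff_left _ (Ideal.mul_mem_left _ _ hd)).1 ha

omit [IsLocalRing A] [IsNoetherianRing A] in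
/-- A conormal basis descends modulo its distinguished member. -/
theorem quot_part {k : ℕ} {I : Ideal A} {z : A} {x : Fin (k + 1) → A} {j : Fin (k + 1)} {J : Set (Fin (k + 1))}
    (hx : IsPart I x J) (hz : x j = z) :
    IsPart (I.map (Ideal.Quotient.mk (Ideal.span {z})))
      (fun i => Ideal.Quotient.mk (Ideal.span {z}) (x (j.succAbove i))) (j.succAbove ⁻¹' J) := by
  classical
  set π := Ideal.Quotient.mk (Ideal.span {z})
  constructor
  · rw [← hx.span, Ideal.map_span, ← Set.range_comp]
    refine le_antisymm (Ideal.span_mono ?_) (Ideal.span_le.mpr ?_)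
    · rintro _ ⟨i, rfl⟩; exact ⟨_, rfl⟩
    · rintro _ ⟨i, rfl⟩
      rcases Fin.eq_self_or_eq_succAbove j i with rfl | ⟨l, rfl⟩
      · rw [Function.comp_apply, hz, Ideal.Quotient.eq_zero_iff_mem.mpr (Ideal.mem_span_singleton_self z)]
        exact zero_mem _
      · exact Ideal.subset_span ⟨l, rfl⟩
  · intro c hc i hi
    choose b hb using fun l => Ideal.Quotient.mk_surjective (I := Ideal.span {z}) (c l)
    have hc' : π (∑ l, b l * x (j.succAbove l)) ∈ (I * I).map π := by
      rw [Ideal.map_mul, map_sum]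
      simpa only [map_mul, π, hb] using hc
    obtain ⟨q, hq, hq'⟩ := (Ideal.mem_map_iff_of_surjective π Ideal.Quotient.mk_surjective).mp hc'
    obtain ⟨t, ht⟩ := Ideal.mem_span_singleton'.mp (Ideal.Quotient.eq.mp hq'.symm)
    have hmem := hx.indep (Fin.insertNth j (-t) b) (by
      rw [Fin.sum_univ_succAbove _ j]
      simp only [Fin.insertNth_apply_same, Fin.insertNth_apply_succAbove, hz]
      rwa [show -t * z + ∑ l, b l * x (j.succAbove l) = q by linear_combination (-1 : A) * ht]) (j.succAbove i) hi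
    rw [Fin.insertNth_apply_succAbove] at hmem
    exact hb i ▸ Ideal.mem_map_of_mem π hmem

/-- The projective dimension descends. -/
theorem quot_pd' {k : ℕ} {I : Ideal A} {z : A} {x : Fin (k + 1) → A} {j : Fin (k + 1)} {J : Set (Fin (k + 1))}
    (hx : IsPart I x J) (hj : j ∈ J) (hz : x j = z) (hreg : IsSMulRegular A z) {n : ℕ}
    (hpd : HasProjectiveDimensionLT (ModuleCat.of A I) (n + 1)) :
    HasProjectiveDimensionLT
      (ModuleCat.of (A ⧸ Ideal.span {z}) (I.map (Ideal.Quotient.mk (Ideal.span {z})))) (n + 1) := by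
  classical
  let S := A ⧸ Ideal.span {z}
  set I' := I.map (Ideal.Quotient.mk (Ideal.span {z})) with hI'
  have hregI : IsSMulRegular I z := fun a b h => Subtype.ext (hreg (congrArg Subtype.val h))
  have hdown := RegLocal.hasProjectiveDimensionLT_down hreg n I hregI hpd
  let π : S ⊗[A] I →ₗ[S] I' := (baseMul S I).codRestrict I' fun y => (range_baseMul S I).le ⟨y, rfl⟩
  let φ : (Fin k → S) →ₗ[S] S ⊗[A] I :=
    Fintype.linearCombination S fun l => (1 : S) ⊗ₜ[A] (⟨x (j.succAbove l), hx.mem _⟩ : I)
  let ψ : (Fin k → S) →ₗ[S] I' := π.comp φ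
  have hψ : ∀ c, (ψ c : S) = ∑ l, c l * Ideal.Quotient.mk (Ideal.span {z}) (x (j.succAbove l)) := by
    intro c
    simp [ψ, π, φ, Fintype.linearCombination_apply, baseMul_tmul, S]
  have hψs : Function.Surjective ψ := by
    rintro ⟨y, hy⟩
    have := hy
    rw [hI', ← (quot_part hx hz).span] at this
    obtain ⟨c, hc⟩ := Ideal.mem_span_range_iff_exists_fun.mp this
    exact ⟨c, Subtype.ext ((hψ c).trans hc)⟩
  have hker : LinearMap.ker ψ ≤ LinearMap.ker φ := by
    intro c hc
    choose b hb using fun l => Ideal.Quotient.mk_surjective (I := Ideal.span {z}) (c l)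
    have h0 : Ideal.Quotient.mk (Ideal.span {z}) (∑ l, b l * x (j.succAbove l)) = 0 := by
      have h := hψ c
      rw [LinearMap.mem_ker.mp hc] at h
      rw [map_sum]
      simpa [hb] using h.symm
    obtain ⟨t, ht⟩ := Ideal.mem_span_singleton'.mp (Ideal.Quotient.eq_zero_iff_mem.mp h0)
    have hmem := hx.indep (Fin.insertNth j (-t) b) (by
      rw [Fin.sum_univ_succAbove _ j]
      simp only [Fin.insertNth_apply_same, Fin.insertNth_apply_succAbove, hz]
      rw [show -t * z + ∑ l, b l * x (j.succAbove l) = 0 by linear_combination (-1 : A) * ht]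
      exact zero_mem _) j hj
    rw [Fin.insertNth_apply_same, neg_mem_iff] at hmem
    rw [LinearMap.mem_ker]
    have hφc : φ c = (1 : S) ⊗ₜ[A] (∑ l, b l • (⟨x (j.succAbove l), hx.mem _⟩ : I)) := by
      simp only [φ, Fintype.linearCombination_apply, TensorProduct.tmul_sum, TensorProduct.tmul_smul]
      refine Finset.sum_congr rfl fun l _ => ?_
      rw [← algebraMap_smul S (b l), Ideal.Quotient.algebraMap_eq, hb]
    have heq : ∑ l, b l • (⟨x (j.succAbove l), hx.mem _⟩ : I) = z • (⟨t, hmem⟩ : I) := by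
      refine Subtype.ext ?_
      simp [← ht, mul_comm]
    rw [hφc, heq, TensorProduct.tmul_smul, ← algebraMap_smul S z,
      Ideal.Quotient.algebraMap_eq, Ideal.Quotient.eq_zero_iff_mem.mpr (Ideal.mem_span_singleton_self z), zero_smul]
  let σ : I' →ₗ[S] S ⊗[A] I :=
    ((LinearMap.ker ψ).liftQ φ hker).comp (ψ.quotKerEquivOfSurjective hψs).symm.toLinearMap
  have hσ : ∀ y, π (σ y) = y := fun y => by
    obtain ⟨c, rfl⟩ := hψs y
    have hsymm : (ψ.quotKerEquivOfSurjective hψs).symm (ψ c) = Submodule.Quotient.mk c :=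
      (LinearEquiv.symm_apply_eq _).mpr (LinearMap.quotKerEquivOfSurjective_apply_mk ψ hψs c).symm
    show π (((LinearMap.ker ψ).liftQ φ hker) _) = _
    rw [LinearEquiv.coe_coe, hsymm, Submodule.liftQ_apply]
    rfl
  exact (Retract.mk (ModuleCat.ofHom σ) (ModuleCat.ofHom π) (ModuleCat.hom_ext (LinearMap.ext hσ))).hasProjectiveDimensionLT _

/-- A regular sequence in the classes of the distinguished generators. -/
theorem exists_regular_part : ∀ (r : ℕ) (A : Type u) [CommRing A] [IsLocalRing A] [IsNoetherianRing A] (I : Ideal A),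
    I ≠ ⊤ → ∀ (k : ℕ) (x : Fin k → A) (J : Set (Fin k)), IsPart I x J → ∀ (φ : Fin r → Fin k), Function.Injective φ →
    (∀ i, φ i ∈ J) → ∀ n : ℕ, HasProjectiveDimensionLT (ModuleCat.of A I) (n + 1) →
    ∃ y : Fin r → A, (∀ i, y i - x (φ i) ∈ I * I) ∧ IsWeaklyRegular A (List.ofFn y) := by
  intro r
  induction r with
  | zero =>
    intro A _ _ _ I _ k x J _ φ _ _ n _
    exact ⟨fun i => i.elim0, fun i => i.elim0, by simp⟩
  | succ r ih =>
    intro A _ _ _ I hI k x J hx φ hinj hφ n hpd
    classical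
    obtain ⟨k, rfl⟩ : ∃ k', k = k' + 1 := ⟨k - 1, by have := (φ 0).2; omega⟩
    have hjac : I ≤ Ring.jacobson A := by
      rw [IsLocalRing.ringJacobson_eq_maximalIdeal]; exact le_maximalIdeal hI
    set j := φ 0 with hj
    obtain ⟨d, hd, hdn⟩ := Groth.Agent.DSeqLib.exists_add_notMem (x j) (I * I) (associatedPrimes.finite A A).toFinset
      (fun P hP => ((associatedPrimes.finite A A).mem_toFinset.mp hP).1) fun P hP hle => by
        have hP' := (associatedPrimes.finite A A).mem_toFinset.mp hP
        exact not_le_associatedPrime' hx (hφ 0) hpd hP' ((hP'.1.mul_le.1 hle).elim id id)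
    have hreg : IsSMulRegular A (x j + d) := by
      by_contra hreg
      have := (biUnion_associatedPrimes_eq_compl_regular (R := A) (M := A)).ge hreg
      simp only [Set.mem_iUnion] at this
      obtain ⟨P, hP, hzP⟩ := this
      exact hdn P ((associatedPrimes.finite A A).mem_toFinset.mpr hP) hzP
    set z := x j + d with hz
    have hx' := replace_part hx j hd hjac I.fg_of_isNoetherianRing
    set q := Ideal.Quotient.mk (Ideal.span {z}) with hq
    have hmem : z ∈ I := add_mem (hx.mem j) (Ideal.mul_le_left hd)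
    have hnt : Nontrivial (A ⧸ Ideal.span {z}) := Ideal.Quotient.nontrivial_iff.mpr
      fun h => hI (top_le_iff.mp (h ▸ Ideal.span_le.mpr (Set.singleton_subset_iff.mpr hmem)))
    haveI : IsLocalRing (A ⧸ Ideal.span {z}) := IsLocalRing.of_surjective' q Ideal.Quotient.mk_surjective
    have hI' : I.map q ≠ ⊤ := fun h => hI (by
      have := congrArg (Ideal.comap q) h
      rwa [Ideal.comap_map_quotientMk, Ideal.comap_top,
        sup_eq_right.mpr (Ideal.span_le.mpr (Set.singleton_subset_iff.mpr hmem))] at this)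
    have hne : ∀ i : Fin r, φ i.succ ≠ j := fun i h => Fin.succ_ne_zero i (hinj h)
    choose ψ hψ using fun i : Fin r => Fin.exists_succAbove_eq (hne i)
    obtain ⟨y, hy, hyreg⟩ := ih _ (I.map q) hI' k _ _ (quot_part hx' (Function.update_self j _ x)) ψ
      (fun a b h => Fin.succ_inj.1 (hinj (by rw [← hψ a, ← hψ b, h])))
      (fun i => show j.succAbove (ψ i) ∈ J by rw [hψ]; exact hφ _) n
      (quot_pd' hx' (hφ 0) (Function.update_self j _ x) hreg hpd)
    have hd' : ∀ i, ∃ e ∈ I * I, q e = y i - q (x (φ i.succ)) := fun i => by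
      have h := hy i
      rw [hψ, Function.update_of_ne (hne i), ← Ideal.map_mul] at h
      exact (Ideal.mem_map_iff_of_surjective q Ideal.Quotient.mk_surjective).1 h
    choose e he heq using hd'
    refine ⟨Fin.cons z (fun i => x (φ i.succ) + e i), fun i => ?_, ?_⟩
    · refine Fin.cases ?_ (fun i => ?_) i
      · simpa [hz, hj] using hd
      · simpa using he i
    · rw [List.ofFn_cons, isWeaklyRegular_cons_iff]
      refine ⟨hreg, ?_⟩
      let eq : QuotSMulTop z A ≃ₗ[A] (A ⧸ Ideal.span {z}) := Submodule.quotEquivOfEq _ _ (by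
        rw [← Submodule.ideal_span_singleton_smul, smul_eq_mul, Ideal.mul_top])
      rw [eq.isWeaklyRegular_congr, ← isWeaklyRegular_map_algebraMap_iff (A ⧸ Ideal.span {z}), List.map_ofFn,
        Ideal.Quotient.algebraMap_eq]
      rwa [show (q ∘ fun i => x (φ i.succ) + e i) = y from funext fun i => by simp [heq]]

end Groth.Agent.FerrVasc
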